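import Mathlib
import Cfsg.Agent.S0074
import Cfsg.Agent.S0088
import Cfsg.Agent.H146.KW.Tools

/-!
# S4515, piece R6 (helper183)

* `eq_one_of_seven` : an automorphism `x` of a group of order 8 and exponent 2 with `x² = 1` normalising a group of order 7
  of automorphisms is trivial;
* `odd_of_normal` : a group of automorphisms of a group `R` of order 8 having a normal subgroup of odd order without
  nontrivial common fixed points is of odd order;
* `sylow_le_of_card_eight`.
-/

set_option autoImplicit false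

open Subgroup
open scoped commutatorElement

namespace Cfsg.Agent.H183.EB515

section Aut

variable {R : Type*} [Group R] [Finite R]

/-- orbit-stabiliser -/
theorem card_orbit_mul {X : Type*} {A : Type*} [Group A] [MulAction A X] (r : X) :
    Nat.card (MulAction.orbit A r) * Nat.card (MulAction.stabilizer A r) = Nat.card A := by
  rw [← Nat.card_prod]
  exact Nat.card_congr (MulAction.orbitProdStabilizerEquivGroup A r)

theorem eq_one_of_seven (h8 : Nat.card R = 8) (he : ∀ r : R, r * r = 1) {T : Subgroup (MulAut R)}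
    (hT : Nat.card T = 7) {x : MulAut R} (hx : x * x = 1) (hn : ∀ t ∈ T, x * t * x⁻¹ ∈ T) : x = 1 := by
  classical
  have hcomm : ∀ r s : R, r * s = s * r := by
    intro r s
    have h1 : r * s * (r * s) = 1 := he _
    have hr : r⁻¹ = r := inv_eq_of_mul_eq_one_left (he r)
    have hs : s⁻¹ = s := inv_eq_of_mul_eq_one_left (he s)
    calc r * s = (r * s)⁻¹ := (inv_eq_of_mul_eq_one_left h1).symm
      _ = s * r := by rw [mul_inv_rev, hr, hs]
  have hxx : ∀ r : R, x (x r) = r := fun r => by
    have : (x * x) r = r := by rw [hx]; rfl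
    exact this
  -- the fixed points of `x`
  let f : R →* R :=
    { toFun := fun r => r * x r
      map_one' := by rw [map_one, mul_one]
      map_mul' := fun a b => by
        rw [map_mul, mul_assoc, mul_assoc, ← mul_assoc b, ← mul_assoc (x a), hcomm b (x a), mul_assoc] }
  have hker : ∀ r : R, r ∈ f.ker ↔ x r = r := by
    intro r
    rw [MonoidHom.mem_ker]
    change r * x r = 1 ↔ _
    constructor
    · intro h
      have h1 : x r = r⁻¹ := eq_inv_of_mul_eq_one_right h
      rw [h1]
      exact inv_eq_of_mul_eq_one_left (he r)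
    · intro h
      rw [h, he]
  have hrange : f.range ≤ f.ker := by
    rintro _ ⟨r, rfl⟩
    rw [hker]
    change x (r * x r) = r * x r
    rw [map_mul, hxx, hcomm]
  have hcard : Nat.card f.ker * Nat.card f.range = 8 := by
    rw [← h8, ← f.ker.card_mul_index, index_ker]
  have hle : Nat.card f.range ≤ Nat.card f.ker := Nat.le_of_dvd Nat.card_pos (card_dvd_of_le hrange)
  have h3 : 3 ≤ Nat.card f.ker := by nlinarith
  -- two of them
  obtain ⟨r1, r2, h1, h2, h12, hf1, hf2⟩ : ∃ r1 r2 : R, r1 ≠ 1 ∧ r2 ≠ 1 ∧ r1 ≠ r2 ∧ x r1 = r1 ∧ x r2 = r2 := by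
    have h4 : 2 < (f.ker : Set R).ncard := by
      rw [← Nat.card_coe_set_eq]
      exact h3
    obtain ⟨a, b, c, ha, hb, hc, hab, hac, hbc⟩ := (Set.two_lt_ncard_iff (Set.toFinite _)).1 h4
    by_cases h5 : a = 1
    · exact ⟨b, c, fun h => hab (by rw [h5, h]), fun h => hac (by rw [h5, h]), hbc, (hker b).1 hb, (hker c).1 hc⟩
    · by_cases h6 : b = 1
      · exact ⟨a, c, h5, fun h => hbc (by rw [h6, h]), hac, (hker a).1 ha, (hker c).1 hc⟩
      · exact ⟨a, b, h5, h6, hab, (hker a).1 ha, (hker b).1 hb⟩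
  -- `T` is regular on the elements different from `1`
  have horb : ∀ r : R, r ≠ 1 → Nat.card (MulAction.orbit T r) = 7 := by
    intro r hr
    have h4 := card_orbit_mul (A := T) r
    rw [hT] at h4
    rcases (Nat.dvd_prime (by norm_num : Nat.Prime 7)).1 (Dvd.intro _ h4) with h5 | h5
    swap
    · exact h5
    exfalso
    -- every orbit has length one
    have hfix : ∀ t ∈ T, t r = r := by
      intro t ht
      have h6 : Subsingleton (MulAction.orbit T r) := (Nat.card_eq_one_iff_unique.1 h5).1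
      have h7 : (⟨(⟨t, ht⟩ : T) • r, MulAction.mem_orbit _ _⟩ : MulAction.orbit T r) =
          ⟨r, MulAction.mem_orbit_self _⟩ := Subsingleton.elim _ _
      exact congrArg Subtype.val h7
    have hone : ∀ s : R, Nat.card (MulAction.orbit T s) = 1 := by
      intro s
      have h4 := card_orbit_mul (A := T) s
      rw [hT] at h4
      rcases (Nat.dvd_prime (by norm_num : Nat.Prime 7)).1 (Dvd.intro _ h4) with h5 | h5
      · exact h5
      exfalso
      -- the orbit of `s`, `1`, `r`
      have h6 : Disjoint (MulAction.orbit T s) ({1, r} : Set R) := by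
        rw [Set.disjoint_left]
        rintro y hy hy'
        have h7 : ∀ t ∈ T, t y = y := by
          rcases hy' with rfl | rfl
          · intro t _; exact map_one t
          · exact hfix
        have h8 : MulAction.orbit T y = {y} := by
          ext z
          constructor
          · rintro ⟨t, rfl⟩
            exact h7 t t.2
          · rintro rfl
            exact MulAction.mem_orbit_self _
        have h9 : MulAction.orbit T s = MulAction.orbit T y := (MulAction.orbit_eq_iff.2 hy).symm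
        rw [h9, h8] at h5
        simp at h5
      have h7 : (MulAction.orbit T s ∪ {1, r}).ncard ≤ 8 := by
        rw [← h8, ← Set.ncard_univ]
        exact Set.ncard_le_ncard (Set.subset_univ _) (Set.toFinite _)
      rw [Set.ncard_union_eq h6 (Set.toFinite _) (Set.toFinite _), ← Nat.card_coe_set_eq, h5,
        Set.ncard_pair (Ne.symm hr)] at h7
      omega
    have htriv : T = ⊥ := by
      rw [eq_bot_iff]
      intro t ht
      rw [mem_bot]
      ext s
      have h6 : Subsingleton (MulAction.orbit T s) := (Nat.card_eq_one_iff_unique.1 (hone s)).1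
      have h7 : (⟨(⟨t, ht⟩ : T) • s, MulAction.mem_orbit _ _⟩ : MulAction.orbit T s) =
          ⟨s, MulAction.mem_orbit_self _⟩ := Subsingleton.elim _ _
      exact congrArg Subtype.val h7
    rw [htriv, Subgroup.card_bot] at hT
    norm_num at hT
  have hmem : ∀ s : R, s ≠ 1 → ∃ t ∈ T, t r1 = s := by
    intro s hs
    have h4 : MulAction.orbit T r1 = {1}ᶜ := by
      apply Set.eq_of_subset_of_ncard_le
      · rintro _ ⟨t, rfl⟩ h5
        have h6 : (t : MulAut R) r1 = 1 := h5
        exact h1 ((map_eq_one_iff _ (t : MulAut R).injective).1 h6)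
      · rw [Set.ncard_compl, Set.ncard_singleton, h8, ← Nat.card_coe_set_eq, horb r1 h1]
      · exact Set.toFinite _
    have h5 : s ∈ MulAction.orbit T r1 := by rw [h4]; exact hs
    obtain ⟨t, ht⟩ := h5
    exact ⟨t, t.2, ht⟩
  have hreg : ∀ t ∈ T, ∀ t' ∈ T, t r1 = t' r1 → t = t' := by
    intro t ht t' ht' h
    have h4 := card_orbit_mul (A := T) r1
    rw [horb r1 h1, hT] at h4
    have h5 : Nat.card (MulAction.stabilizer T r1) = 1 := by omega
    have h6 : (⟨t', ht'⟩ : T)⁻¹ * ⟨t, ht⟩ ∈ MulAction.stabilizer T r1 := by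
      rw [MulAction.mem_stabilizer_iff, mul_smul, inv_smul_eq_iff]
      exact h
    rw [Subgroup.card_eq_one.1 h5, mem_bot, inv_mul_eq_one] at h6
    exact (congrArg Subtype.val h6).symm
  -- `x` commutes with `t`, `t r1 = r2`
  obtain ⟨t, ht, htr⟩ := hmem r2 h2
  have hxt : x * t * x⁻¹ = t := by
    refine hreg _ (hn t ht) _ ht ?_
    have hxi : x⁻¹ r1 = r1 := by
      have h4 : x⁻¹ (x r1) = r1 := x.symm_apply_apply r1
      rwa [hf1] at h4
    change x (t (x⁻¹ r1)) = t r1
    rw [hxi, htr, hf2]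
  have hc : x * t = t * x := mul_inv_eq_iff_eq_mul.1 hxt
  have htz : ∀ s ∈ T, ∃ k : ℤ, t ^ k = s := by
    have h4 : (⟨t, ht⟩ : T) ≠ 1 := by
      intro h
      have h5 : t = 1 := congrArg Subtype.val h
      rw [h5] at htr
      exact h12 htr
    intro s hs
    have h5 : Fact (Nat.Prime 7) := ⟨by norm_num⟩
    have h6 : zpowers (⟨t, ht⟩ : T) = ⊤ := zpowers_eq_top_of_prime_card hT h4
    obtain ⟨k, hk⟩ : (⟨s, hs⟩ : T) ∈ zpowers (⟨t, ht⟩ : T) := by rw [h6]; exact mem_top _
    exact ⟨k, congrArg Subtype.val hk⟩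
  ext s
  rw [MulAut.one_apply]
  by_cases hs : s = 1
  · rw [hs, map_one]
  · obtain ⟨u, hu, rfl⟩ := hmem s hs
    obtain ⟨k, rfl⟩ := htz u hu
    have h4 : x * t ^ k = t ^ k * x := ((show Commute x t from hc).zpow_right k).eq
    have h5 : (x * t ^ k) r1 = (t ^ k * x) r1 := by rw [h4]
    change x ((t ^ k) r1) = (t ^ k) (x r1) at h5
    rw [h5, hf1]

/-- transitivity -/
theorem exists_of_odd (h8 : Nat.card R = 8) {A : Subgroup (MulAut R)} (hA : Odd (Nat.card A))
    (hfix : ∀ r : R, (∀ a ∈ A, a r = r) → r = 1) {r s : R} (hr : r ≠ 1) (hs : s ≠ 1) : ∃ a ∈ A, a r = s := by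
  classical
  by_contra hcon
  have hodd : ∀ t : R, Odd (MulAction.orbit A t).ncard := by
    intro t
    rw [← Nat.card_coe_set_eq]
    exact Odd.of_dvd_nat hA (Dvd.intro _ (card_orbit_mul (A := A) t))
  have hge : ∀ t : R, t ≠ 1 → 3 ≤ (MulAction.orbit A t).ncard := by
    intro t ht
    have h1 := hodd t
    by_contra h2
    have h3 : (MulAction.orbit A t).ncard = 1 := by
      obtain ⟨k, hk⟩ := h1
      omega
    apply ht
    apply hfix
    intro a ha
    obtain ⟨y, hy⟩ := Set.ncard_eq_one.1 h3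
    have h4 : a t ∈ MulAction.orbit A t := ⟨⟨a, ha⟩, rfl⟩
    have h5 : t ∈ MulAction.orbit A t := MulAction.mem_orbit_self _
    rw [hy] at h4 h5
    exact h4.trans h5.symm
  have hone : ∀ t : R, t ≠ 1 → Disjoint ({1} : Set R) (MulAction.orbit A t) := by
    intro t ht
    rw [Set.disjoint_singleton_left]
    rintro ⟨a, ha⟩
    have h6 : (a : MulAut R) t = 1 := ha
    exact ht ((map_eq_one_iff _ (a : MulAut R).injective).1 h6)
  have hdis : ∀ t u : R, u ∉ MulAction.orbit A t → Disjoint (MulAction.orbit A t) (MulAction.orbit A u) := by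
    intro t u h
    rw [Set.disjoint_left]
    intro y hy hy'
    apply h
    rw [← MulAction.orbit_eq_iff] at hy hy' ⊢
    rw [← hy, ← hy']
  have hsr : s ∉ MulAction.orbit A r := by
    rintro ⟨a, ha⟩
    exact hcon ⟨a, a.2, ha⟩
  have hU : (({1} : Set R) ∪ MulAction.orbit A r ∪ MulAction.orbit A s).ncard =
      1 + (MulAction.orbit A r).ncard + (MulAction.orbit A s).ncard := by
    rw [Set.ncard_union_eq _ (Set.toFinite _) (Set.toFinite _), Set.ncard_union_eq (hone r hr) (Set.toFinite _)
      (Set.toFinite _), Set.ncard_singleton]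
    rw [Set.disjoint_union_left]
    exact ⟨hone s hs, hdis r s hsr⟩
  have huniv : (Set.univ : Set R).ncard = 8 := by rw [Set.ncard_univ, h8]
  obtain ⟨t, ht⟩ : ∃ t, t ∉ ({1} : Set R) ∪ MulAction.orbit A r ∪ MulAction.orbit A s := by
    by_contra h
    push Not at h
    have h1 : ({1} : Set R) ∪ MulAction.orbit A r ∪ MulAction.orbit A s = Set.univ := Set.eq_univ_of_forall h
    rw [h1, huniv] at hU
    obtain ⟨k, hk⟩ := hodd r
    obtain ⟨l, hl⟩ := hodd s
    omega
  have ht1 : t ≠ 1 := fun h => ht (Or.inl (Or.inl h))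
  have htr : t ∉ MulAction.orbit A r := fun h => ht (Or.inl (Or.inr h))
  have hts : t ∉ MulAction.orbit A s := fun h => ht (Or.inr h)
  have h1 : (({1} : Set R) ∪ MulAction.orbit A r ∪ MulAction.orbit A s ∪ MulAction.orbit A t).ncard =
      1 + (MulAction.orbit A r).ncard + (MulAction.orbit A s).ncard + (MulAction.orbit A t).ncard := by
    rw [Set.ncard_union_eq _ (Set.toFinite _) (Set.toFinite _), hU]
    rw [Set.disjoint_union_left, Set.disjoint_union_left]
    exact ⟨⟨hone t ht1, hdis r t htr⟩, hdis s t hts⟩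
  have h2 : (({1} : Set R) ∪ MulAction.orbit A r ∪ MulAction.orbit A s ∪ MulAction.orbit A t).ncard ≤ 8 := by
    rw [← huniv]
    exact Set.ncard_le_ncard (Set.subset_univ _) (Set.toFinite _)
  have h3 := hge r hr
  have h4 := hge s hs
  have h5 := hge t ht1
  omega

/-- **Groups of automorphisms with a normal subgroup of odd order.** -/
theorem odd_of_normal (h8 : Nat.card R = 8) {X : Subgroup (MulAut R)} {A : Subgroup X} [hAn : A.Normal]
    (hA : Odd (Nat.card A)) (hfix : ∀ r : R, (∀ a ∈ A, (a : MulAut R) r = r) → r = 1) : Odd (Nat.card X) := by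
  classical
  have hp2 : Fact (Nat.Prime 2) := ⟨Nat.prime_two⟩
  have hp7 : Fact (Nat.Prime 7) := ⟨by norm_num⟩
  have hfin : Finite (MulAut R) := Finite.of_injective (fun f : MulAut R => (f : R → R)) DFunLike.coe_injective
  -- `A` as a subgroup of `MulAut R`
  have hA' : Odd (Nat.card (A.map X.subtype)) := by
    rwa [card_map_of_injective X.subtype_injective]
  have hfix' : ∀ r : R, (∀ a ∈ A.map X.subtype, a r = r) → r = 1 := fun r h =>
    hfix r fun a ha => h a ⟨a, ha, rfl⟩
  have htr : ∀ r s : R, r ≠ 1 → s ≠ 1 → ∃ a ∈ A.map X.subtype, a r = s := fun r s hr hs =>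
    exists_of_odd h8 hA' hfix' hr hs
  -- exponent 2
  obtain ⟨r0, hr0⟩ := exists_prime_orderOf_dvd_card' (G := R) 2 (by rw [h8]; norm_num)
  have hr01 : r0 ≠ 1 := by
    rintro rfl
    rw [orderOf_one] at hr0
    norm_num at hr0
  have he : ∀ r : R, r * r = 1 := by
    intro r
    by_cases hr : r = 1
    · rw [hr, mul_one]
    · obtain ⟨a, -, ha⟩ := htr r0 r hr01 hr
      rw [← ha, ← map_mul, ← pow_two, ← hr0, pow_orderOf_eq_one, map_one]
  -- `7 ∣ |A|`
  have h7 : 7 ∣ Nat.card A := by
    have h1 := card_orbit_mul (A := ↥(A.map X.subtype)) r0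
    have h2 : MulAction.orbit ↥(A.map X.subtype) r0 = {1}ᶜ := by
      ext y
      constructor
      · rintro ⟨t, rfl⟩ h5
        have h6 : (t : MulAut R) r0 = 1 := h5
        exact hr01 ((map_eq_one_iff _ (t : MulAut R).injective).1 h6)
      · intro hy
        obtain ⟨a, ha, hay⟩ := htr r0 y hr01 hy
        exact ⟨⟨a, ha⟩, hay⟩
    rw [h2, Nat.card_coe_set_eq, Set.ncard_compl, Set.ncard_singleton, h8,
      card_map_of_injective X.subtype_injective] at h1
    exact Dvd.intro _ h1
  -- `49` does not divide the order of `MulAut R`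
  have h49 : ∀ n : ℕ, 7 ^ n ∣ Nat.card (MulAut R) → n ≤ 1 := by
    intro n hn
    by_contra hn1
    have h1 : Nat.card (MulAut R) ∣ Nat.card (Equiv.Perm R) :=
      card_dvd_of_injective (MulAut.toPerm R) (fun a b h => MulEquiv.toEquiv_injective h)
    rw [Nat.card_perm, h8] at h1
    have h2 : 7 ^ 2 ∣ Nat.factorial 8 := (pow_dvd_pow 7 (by omega : 2 ≤ n)).trans (hn.trans h1)
    revert h2
    decide
  -- Frattini
  obtain ⟨T⟩ : Nonempty (Sylow 7 A) := inferInstance
  have hfr := Sylow.normalizer_sup_eq_top T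
  set T' : Subgroup X := (T : Subgroup A).map A.subtype with hT'
  have hT'c : Nat.card T' = 7 := by
    rw [hT', card_map_of_injective A.subtype_injective]
    obtain ⟨n, hn⟩ := IsPGroup.iff_card.1 T.isPGroup'
    have h1 : 7 ^ n ∣ Nat.card (MulAut R) := by
      rw [← hn]
      exact ((card_subgroup_dvd_card _).trans (card_subgroup_dvd_card A)).trans (card_subgroup_dvd_card X)
    have h2 := h49 n h1
    have h3 : 7 ∣ Nat.card (T : Subgroup A) := T.dvd_card_of_dvd_card h7
    rw [hn] at h3 ⊢
    interval_cases n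
    · norm_num at h3
    · norm_num
  rw [← Nat.not_even_iff_odd, even_iff_two_dvd]
  intro h2
  -- `2 ∣ |N_X(T)|`
  have hN2 : 2 ∣ Nat.card (normalizer (T' : Set X)) := by
    let f : ↥(normalizer (T' : Set X)) →* X ⧸ A := (QuotientGroup.mk' A).comp (normalizer (T' : Set X)).subtype
    have hf : Function.Surjective f := by
      intro y
      obtain ⟨y, rfl⟩ := QuotientGroup.mk_surjective y
      have hy : y ∈ normalizer (T' : Set X) ⊔ A := by rw [hfr]; exact mem_top _
      obtain ⟨n, hn, a, ha, rfl⟩ := mem_sup_of_normal_right.1 hy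
      refine ⟨⟨n, hn⟩, ?_⟩
      change (QuotientGroup.mk n : X ⧸ A) = QuotientGroup.mk (n * a)
      rw [QuotientGroup.mk_mul, (QuotientGroup.eq_one_iff a).2 ha, mul_one]
    have h1 := card_dvd_of_surjective f hf
    have h3 : Nat.card X = Nat.card A * Nat.card (X ⧸ A) := by
      rw [← A.card_mul_index]
      rfl
    rw [h3] at h2
    rcases (Nat.Prime.dvd_mul Nat.prime_two).1 h2 with h4 | h4
    · exact absurd h4 hA.not_two_dvd_nat
    · exact h4.trans h1
  obtain ⟨x, hx⟩ := exists_prime_orderOf_dvd_card' (G := ↥(normalizer (T' : Set X))) 2 hN2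
  have hx2 : ((x : X) : MulAut R) * ((x : X) : MulAut R) = 1 := by
    have h1 : x ^ 2 = 1 := orderOf_dvd_iff_pow_eq_one.1 hx.dvd
    rw [pow_two] at h1
    exact congrArg (fun z : ↥(normalizer (T' : Set X)) => ((z : X) : MulAut R)) h1
  have h1 : ((x : X) : MulAut R) = 1 := by
    refine eq_one_of_seven h8 he (T := T'.map X.subtype) ?_ hx2 ?_
    · rw [card_map_of_injective X.subtype_injective]
      exact hT'c
    · rintro _ ⟨t, ht, rfl⟩
      refine ⟨(x : X) * t * (x : X)⁻¹, ?_, rfl⟩
      exact (mem_normalizer_iff.1 x.2 t).1 ht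
  have h3 : x = 1 := Subtype.ext (Subtype.ext h1)
  rw [h3, orderOf_one] at hx
  norm_num at hx

end Aut

universe u

/-- an abelian Sylow subgroup of a nonabelian simple group has no nontrivial element centralised by its normaliser -/
theorem eq_one_of_central {N : Type*} [Group N] [Finite N] [IsSimpleGroup N] (hna : ¬ IsMulCommutative N) {p : ℕ}
    [Fact p.Prime] (R : Sylow p N) (hR : IsMulCommutative R) {r : N} (hr : r ∈ (R : Subgroup N))
    (hc : ∀ n ∈ normalizer ((R : Subgroup N) : Set N), n * r = r * n) : r = 1 := by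
  have htop : commutator N = ⊤ := by
    rcases (inferInstance : (commutator N).Normal).eq_bot_or_eq_top with h | h
    · exfalso
      apply hna
      refine ⟨⟨fun a b => ?_⟩⟩
      have h1 : ⁅a, b⁆ ∈ commutator N := commutator_mem_commutator (mem_top a) (mem_top b)
      rw [h, mem_bot, commutatorElement_eq_one_iff_mul_comm] at h1
      exact h1
    · exact h
  have h1 := Cfsg.Agent.S0074.result R hR
  set M := normalizer ((R : Subgroup N) : Set N) with hM
  have hRM : (R : Subgroup N) ≤ M := le_normalizer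
  have h2 : r ∈ ⁅M, M⁆ := by
    have h3 : r ∈ commutator N ⊓ (R : Subgroup N) := ⟨by rw [htop]; exact mem_top _, hr⟩
    rw [h1] at h3
    exact h3.1
  -- in the group `M`
  have hcop : Nat.Coprime (Nat.card ((R : Subgroup N).subgroupOf M)) ((R : Subgroup N).subgroupOf M).index := by
    rw [Nat.card_congr (subgroupOfEquivOfLe hRM).toEquiv]
    obtain ⟨n, hn⟩ := IsPGroup.iff_card.1 R.isPGroup'
    rw [hn]
    refine Nat.Coprime.pow_left _ ((Nat.Prime.coprime_iff_not_dvd Fact.out).2 fun h => ?_)
    exact R.not_dvd_index (h.trans (relIndex_dvd_index_of_le hRM))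
  have hab : IsMulCommutative ((R : Subgroup N).subgroupOf M) := by
    refine ⟨⟨fun a b => ?_⟩⟩
    apply Subtype.ext
    apply Subtype.ext
    change ((a : M) : N) * ((b : M) : N) = ((b : M) : N) * ((a : M) : N)
    exact congrArg Subtype.val (hR.is_comm.comm (⟨((a : M) : N), a.2⟩ : (R : Subgroup N)) ⟨((b : M) : N), b.2⟩)
  have h3 := Cfsg.Agent.S0088.result ((R : Subgroup N).subgroupOf M) hab hcop
  have hrM : r ∈ M := hRM hr
  have h4 : (⟨r, hrM⟩ : M) ∈ (R : Subgroup N).subgroupOf M ⊓ commutator M ⊓ Subgroup.center M := by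
    refine ⟨⟨hr, ?_⟩, ?_⟩
    · have h5 : (commutator M).map M.subtype = ⁅M, M⁆ := by
        rw [_root_.commutator_def, map_commutator]
        have h6 : (⊤ : Subgroup M).map M.subtype = M := by
          rw [← MonoidHom.range_eq_map, range_subtype]
        rw [h6]
      rw [← h5] at h2
      obtain ⟨y, hy, hyr⟩ := h2
      have h6 : y = ⟨r, hrM⟩ := Subtype.ext hyr
      rw [← h6]
      exact hy
    · exact mem_center_iff.2 fun g => Subtype.ext (hc g g.2)
  rw [h3, mem_bot] at h4
  exact congrArg Subtype.val h4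

/-- **[R6]** the local lemma for `|R| = 8` -/
theorem sylow_le_of_card_eight {G : Type u} [Group G] [Finite G] (N : Subgroup G) [N.Normal]
    (hN : IsSimpleGroup N) (hna : ¬ IsMulCommutative N) (P : Sylow 2 G)
    (hR : IsMulCommutative ((P : Subgroup G) ⊓ N : Subgroup G))
    (hcard : Nat.card ((P : Subgroup G) ⊓ N : Subgroup G) = 8)
    (hC : (P : Subgroup G) ⊓ Subgroup.centralizer (((P : Subgroup G) ⊓ N : Subgroup G) : Set G) ≤ N) :
    (P : Subgroup G) ≤ N := by
  classical
  have hp2 : Fact (Nat.Prime 2) := ⟨Nat.prime_two⟩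
  have hNn : N.Normal := inferInstance
  set R : Subgroup G := (P : Subgroup G) ⊓ N with hRdef
  -- `R` as a Sylow subgroup of `N`
  have hRi : ¬ 2 ∣ (R.subgroupOf N).index := by
    rw [hRdef, inf_subgroupOf_right]
    have h1 := (H146.KW.psub_top (p := 2) (G := G)).inf_normal (N := N)
    rw [top_inf_eq] at h1
    exact h1 P
  let RN : Sylow 2 N := IsPGroup.toSylow (P := R.subgroupOf N)
    ((P.isPGroup'.to_le (inf_le_left : R ≤ (P : Subgroup G))).comap_subtype) hRi
  have hRNc : IsMulCommutative RN := by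
    refine ⟨⟨fun a b => ?_⟩⟩
    apply Subtype.ext
    apply Subtype.ext
    change ((a : N) : G) * ((b : N) : G) = ((b : N) : G) * ((a : N) : G)
    exact congrArg Subtype.val (hR.is_comm.comm (⟨((a : N) : G), a.2⟩ : R) ⟨((b : N) : G), b.2⟩)
  set Q := normalizer (R : Set G) with hQ
  let α : Q →* MulAut R := R.normalizerMonoidHom
  have hα : ∀ (q : Q) (r : R), ((α q r : R) : G) = (q : G) * r * (q : G)⁻¹ := fun q r => rfl
  -- `P ≤ Q`
  have hPQ : (P : Subgroup G) ≤ Q := by
    intro x hx
    rw [hQ, mem_normalizer_iff]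
    intro r
    constructor
    · rintro ⟨h1, h2⟩
      exact ⟨(P : Subgroup G).mul_mem ((P : Subgroup G).mul_mem hx h1) ((P : Subgroup G).inv_mem hx),
        hNn.conj_mem _ h2 _⟩
    · rintro ⟨h1, h2⟩
      have h3 : r = x⁻¹ * (x * r * x⁻¹) * x⁻¹⁻¹ := by group
      rw [h3]
      exact ⟨(P : Subgroup G).mul_mem ((P : Subgroup G).mul_mem ((P : Subgroup G).inv_mem hx) h1)
        ((P : Subgroup G).inv_mem ((P : Subgroup G).inv_mem hx)), hNn.conj_mem _ h2 _⟩
  -- the subgroup of `α.range` coming from `N`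
  let A : Subgroup α.range := ((N.subgroupOf Q).map α.rangeRestrict)
  have hAn : A.Normal := (inferInstance : (N.subgroupOf Q).Normal).map _ α.rangeRestrict_surjective
  have hA : Odd (Nat.card A) := by
    -- `R` acts trivially
    rw [← Nat.not_even_iff_odd, even_iff_two_dvd]
    intro h2
    have hRQ : R.subgroupOf Q ≤ α.rangeRestrict.ker := by
      intro r hr
      rw [MonoidHom.mem_ker]
      apply Subtype.ext
      ext s
      change (r : G) * s * (r : G)⁻¹ = s
      have h3 := congrArg Subtype.val (hR.is_comm.comm ⟨(r : G), hr⟩ s)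
      change (r : G) * s = s * r at h3
      rw [h3, mul_inv_cancel_right]
    have h3 : Nat.card A ∣ (R.subgroupOf Q).relIndex (N.subgroupOf Q) := by
      have h4 : Nat.card A = (α.rangeRestrict.ker).relIndex (N.subgroupOf Q) := by
        rw [relIndex_ker]
      rw [h4]
      exact relIndex_dvd_of_le_left _ hRQ
    have h5 : (R.subgroupOf Q).relIndex (N.subgroupOf Q) ∣ R.relIndex N := by
      have h6 : (R.subgroupOf Q).relIndex (N.subgroupOf Q) = R.relIndex (N ⊓ Q) := by
        rw [← inf_subgroupOf_right N Q]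
        exact relIndex_subgroupOf inf_le_right
      rw [h6]
      have h7 : R ≤ N ⊓ Q := le_inf inf_le_right le_normalizer
      have h8 := relIndex_mul_relIndex R (N ⊓ Q) N h7 inf_le_left
      exact Dvd.intro _ h8
    exact hRi ((h2.trans h3).trans h5)
  have hfix : ∀ r : R, (∀ a ∈ A, (a : MulAut R) r = r) → r = 1 := by
    intro r hr
    have hrN : (r : G) ∈ N := r.2.2
    have h1 : (⟨(r : G), hrN⟩ : N) = 1 := by
      refine eq_one_of_central hna RN hRNc (r := ⟨(r : G), hrN⟩) r.2 ?_
      intro n hn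
      -- `n` normalises `R`
      have hnQ : (n : G) ∈ Q := by
        rw [hQ, mem_normalizer_iff]
        intro s
        constructor
        · intro hs
          have h2 := (mem_normalizer_iff.1 hn ⟨s, hs.2⟩).1 hs
          exact h2
        · intro hs
          have hsN : s ∈ N := by
            have h3 := hNn.conj_mem _ hs.2 (n : G)⁻¹
            have h4 : (n : G)⁻¹ * ((n : G) * s * (n : G)⁻¹) * (n : G)⁻¹⁻¹ = s := by group
            rwa [h4] at h3
          exact (mem_normalizer_iff.1 hn ⟨s, hsN⟩).2 hs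
      have h2 := hr (α.rangeRestrict ⟨(n : G), hnQ⟩) ⟨⟨(n : G), hnQ⟩, n.2, rfl⟩
      have h3 : (n : G) * r * (n : G)⁻¹ = r := congrArg Subtype.val h2
      exact Subtype.ext (mul_inv_eq_iff_eq_mul.1 h3)
    have h2 : (r : G) = 1 := congrArg Subtype.val h1
    exact Subtype.ext h2
  have hodd := odd_of_normal hcard (X := α.range) (A := A) hA hfix
  intro x hx
  have h1 : α.rangeRestrict ⟨x, hPQ hx⟩ = 1 := by
    obtain ⟨k, hk⟩ := P.isPGroup' ⟨x, hx⟩
    have hk' : x ^ 2 ^ k = 1 := congrArg Subtype.val hk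
    have h2 : (α.rangeRestrict ⟨x, hPQ hx⟩) ^ 2 ^ k = 1 := by
      rw [← map_pow]
      have h3 : (⟨x, hPQ hx⟩ : Q) ^ 2 ^ k = 1 := Subtype.ext hk'
      rw [h3, map_one]
    rw [← orderOf_eq_one_iff]
    refine Nat.eq_one_of_dvd_coprimes ?_ (orderOf_dvd_of_pow_eq_one h2) (orderOf_dvd_natCard _)
    exact Nat.Coprime.pow_left _ (Nat.coprime_two_left.2 hodd)
  refine hC ⟨hx, mem_centralizer_iff.2 ?_⟩
  intro r hr
  have h2 : α ⟨x, hPQ hx⟩ = 1 := congrArg Subtype.val h1
  have h3 : ((α ⟨x, hPQ hx⟩ ⟨r, hr⟩ : R) : G) = r := by rw [h2]; rfl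
  have h4 : x * r * x⁻¹ = r := h3
  exact (mul_inv_eq_iff_eq_mul.1 h4).symm

end Cfsg.Agent.H183.EB515
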